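import Cfsg.Agent.H973.QA.Rank_m3
import Cfsg.Agent.H606.PQR.Pieces_m3
import Cfsg.Agent.H76.Inv.Fi22
import Cfsg.Agent.H835.SylFive_m3
import Cfsg.Agent.FastGrp
import Cfsg.Agent.Prune
set_option linter.all false

section
prune_inst 0x7ffdeefdbbadf9dfffff7e3ffffddffff1cecfffefdff9cbffece9bfefdfe3a3cbc5fb8f8fe058fede57e2bc18b87813f9ffdfffea6bdc7ffffd57b45ffbee1fe5ffbd0d71d6bc3e06ef6ffffbf1773e6f3fffffffffffffffffffffffffffefffffebfeffff

-- part: H973/QA/Crit
section
prune_inst 0x180000000000000000000000000000000000000000000020010001000000100000000000000000000000000000000000000000000000000000000000000000000000000000000000000000000000000000000000000000000000000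
set_option linter.all false
open scoped Cfsg.Agent.FastGrp

-- part: H973/QA/Tool
section
/-!
# S4979, layer (A): the faithful situation, criteria for single primes (helper973)

`PS p q G V`: `G` acts faithfully on the elementary abelian `q`-group `V`, `q` prime to `|G|`, without fixed vectors, and all
vectors are fixed by Sylow `p`-subgroups.

* `exists_ps` : a `Sit` gives a `PS` for each image `G` of `L` with kernel `N`;
* `noSit_of_prime` : multiplier of prime order: only `PS p q S V` matters;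
* `PS.ch`, `PS.chX` : the CH criterion with the bound `B` for the degrees of `G` itself;
* `PS.orb` : the criterion by orbits of `N(X)` on the linear characters of an abelian `p`-subgroup `X`;
* `PS.orbX` : the same for an element `x` of order `p`: `q ^ |N(⟨x⟩) : C(x)| ≤ |G : N(⟨x⟩)|`.
-/

set_option autoImplicit false

namespace Cfsg.Agent.H973.QA

open Cfsg Cfsg.Agent.H152.QA Cfsg.Agent.H80.Fpf

/-- the faithful situation -/
structure PS (p q : ℕ) (G V : Type) [Group G] [Finite G] [AddCommGroup V] [Finite V] [DistribMulAction G V] : Prop where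
  hp : p.Prime
  hq : q.Prime
  odd : p ≠ 2
  pG : p ∣ Nat.card G
  qG : ¬ q ∣ Nat.card G
  exp : ∀ v : V, q • v = 0
  nt : Nontrivial V
  fix : fixV G V ⊤ = ⊥
  faithful : ∀ g : G, (∀ v : V, g • v = v) → g = 1
  P1 : ∀ v : V, ¬ p ∣ (MulAction.stabilizer G v).index

/-- lower bound for the degrees of the nonlinear irreducible representations -/
def DegB (G : Type) [Group G] (B : ℕ) : Prop :=
  ∀ (d : ℕ) (ρ : Representation ℂ G (Fin d → ℂ)), ρ.IsIrreducible → 2 ≤ d → B ≤ d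

section sit

variable {p q : ℕ} {L V : Type} [Group L] [Finite L] [AddCommGroup V] [Finite V] [DistribMulAction L V]
  {N : Subgroup L} {φ : N →* ℂˣ}

end sit

section crit

variable {p q : ℕ} {G V : Type} [Group G] [Finite G] [AddCommGroup V] [Finite V] [DistribMulAction G V]

omit [Finite G] in
theorem isCover_id (hG : commutator G = ⊤) : IsCover (MonoidHom.id G) :=
  ⟨Function.surjective_id, by
    intro z hz
    have h1 : z = 1 := hz
    rw [h1]
    exact one_mem _, hG⟩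

theorem minDeg_two {G : Type} [Group G] : Cfsg.Agent.H80.Fpf.MinDeg G 2 := fun _ _ _ _ _ _ _ _ h => h

/-- **CH criterion** with the degrees of `G` itself -/
theorem PS.ch (h : PS p q G V) (hG : commutator G = ⊤) {B c : ℕ} (hB : DegB G B) (X : Subgroup G) (hX : IsPGroup p X)
    (hc : ∀ x ∈ X, x ≠ 1 → Nat.card (Subgroup.centralizer ({x} : Set G)) ≤ c ^ 2) :
    q ^ ((Nat.card X - 1) * (B - c)) ≤ (Subgroup.normalizer (X : Set G)).index ^ Nat.card X := by
  have hnt := h.nt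
  have hπ := isCover_id hG
  obtain ⟨d, d', τ, hd, hτ, hd2, -, hdd, hf⟩ := Cfsg.Agent.H245.QA.exists_irr_gen h.hq h.exp h.qG h.fix hπ
    (minDeg_two (G := G))
  have hBd := hB d' τ hτ hd2
  obtain ⟨f, hf1, hf2, hf3⟩ := hf X
  have h1 := Cfsg.Agent.H245.QA.card_le h.hp h.P1 X hX
  rw [hd, hf1] at h1
  have h2 : q ^ (d - f) ≤ (Subgroup.normalizer (X : Set G)).index := by
    have h3 : q ^ d = q ^ (d - f) * q ^ f := by rw [← pow_add]; congr 1; omega
    rw [h3] at h1
    exact Nat.le_of_mul_le_mul_right h1 (Nat.pow_pos h.hq.pos)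
  have h4 : Nat.card X * Module.finrank ℂ (Cfsg.Agent.H245.QA.fixR τ X) ≤ d' + (Nat.card X - 1) * c := by
    apply Cfsg.Agent.H245.QA.card_mul_fix_le
    intro y hy hy1
    have h5 := Cfsg.Agent.H245.QA.norm_sq_le hπ τ hτ y
    have h6 : Nat.card (Subgroup.centralizer ({(MonoidHom.id G) y} : Set G)) ≤ c ^ 2 := hc y hy hy1
    have h7 : ‖τ.character y‖ ^ 2 ≤ (c : ℝ) ^ 2 := h5.trans (by exact_mod_cast h6)
    exact (sq_le_sq₀ (norm_nonneg _) (Nat.cast_nonneg c)).1 h7
  have hX1 : 1 ≤ Nat.card X := Nat.card_pos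
  have h5 : (Nat.card X - 1) * (B - c) ≤ Nat.card X * (d - f) := by
    obtain ⟨m, hm⟩ : ∃ m, Nat.card X = m + 1 := ⟨Nat.card X - 1, by omega⟩
    rw [hm] at h4 ⊢
    rw [Nat.add_sub_cancel] at h4 ⊢
    rcases Nat.le_total B c with hBc | hBc
    · rw [Nat.sub_eq_zero_of_le hBc, mul_zero]; exact Nat.zero_le _
    set a := Module.finrank ℂ (Cfsg.Agent.H245.QA.fixR τ X) with ha
    obtain ⟨e, he⟩ : ∃ e, B = c + e := ⟨B - c, by omega⟩
    obtain ⟨k, hk⟩ : ∃ k, d = f + k := ⟨d - f, by omega⟩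
    have h8 : B - c = e := by omega
    have h9 : d - f = k := by omega
    rw [h8, h9]
    have h10 : d' ≤ k + a := by omega
    have h11 : (m + 1) * d' ≤ (m + 1) * (k + a) := Nat.mul_le_mul_left _ h10
    have h12 : m * (c + e) ≤ m * d' := Nat.mul_le_mul_left _ (by omega)
    linarith only [h4, h11, h12]
  calc q ^ ((Nat.card X - 1) * (B - c)) ≤ q ^ (Nat.card X * (d - f)) := Nat.pow_le_pow_right h.hq.pos h5
    _ = (q ^ (d - f)) ^ Nat.card X := by rw [mul_comm, pow_mul]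
    _ ≤ _ := Nat.pow_le_pow_left h2 _

end crit

section rows

variable {S : Type} [Group S] [Finite S]

end rows



end Cfsg.Agent.H973.QA
end

-- part: H973/QA/Crit
section
/-!
# S4979, layer (A): criteria for the sporadic rows (helper973)

* `codim_conj` : `X` abelian, all non-identity elements conjugate: `dim C(X) + |X| - 1 ≤ dim U`;
* `frob_gen` : `Y ≤ N(E)`, `|E|` prime, `Y` a `p`-group acting nontrivially: `p dim C(Y) ≤ dim U + (p - 1) dim C(E)`;
* `PSit.no_ch`, `PSit.no_fr`, `PSit.no_gen`.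
-/

set_option autoImplicit false
set_option linter.unusedSectionVars false

namespace Cfsg.Agent.H973.QA

open Cfsg Cfsg.Agent.H152.QA Cfsg.Agent.H80.Fpf Cfsg.Agent.H963.QA Module Subgroup

section rep

variable {G : Type*} [Group G] {U : Type*} [AddCommGroup U] [Module ℂ U] [FiniteDimensional ℂ U]
  (ρ : Representation ℂ G U)

/-- `∑ lam(x)⁻¹ = 0` -/
theorem sum_char {X : Type*} [Group X] [Fintype X] {lam : X →* ℂˣ} (h : lam ≠ 1) :
    ∑ x : X, (((lam x)⁻¹ : ℂˣ) : ℂ) = 0 := by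
  obtain ⟨y, hy⟩ : ∃ y, lam y ≠ 1 := by
    by_contra hcon
    push Not at hcon
    exact h (MonoidHom.ext hcon)
  have h1 : (((lam y)⁻¹ : ℂˣ) : ℂ) * ∑ x : X, (((lam x)⁻¹ : ℂˣ) : ℂ) = ∑ x : X, (((lam x)⁻¹ : ℂˣ) : ℂ) := by
    rw [Finset.mul_sum]
    refine Fintype.sum_equiv (Equiv.mulRight y) _ _ fun x => ?_
    rw [Equiv.coe_mulRight, map_mul, mul_inv, Units.val_mul, mul_comm]
  have h2 : ((((lam y)⁻¹ : ℂˣ) : ℂ) - 1) * ∑ x : X, (((lam x)⁻¹ : ℂˣ) : ℂ) = 0 := by
    rw [sub_mul, one_mul, h1, sub_self]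
  rcases mul_eq_zero.1 h2 with h3 | h3
  · exfalso
    apply hy
    have h4 : (((lam y)⁻¹ : ℂˣ) : ℂ) = 1 := by linear_combination h3
    have h5 : (lam y)⁻¹ = 1 := Units.ext h4
    rwa [inv_eq_one] at h5
  · exact h3

theorem card_dual {X : Subgroup G} [Finite X] (hE : ∀ a ∈ X, ∀ b ∈ X, a * b = b * a) :
    Nat.card (X →* ℂˣ) = Nat.card X := by
  classical
  let _ : CommGroup X := { (inferInstance : Group X) with
    mul_comm := fun a b => Subtype.ext (hE a a.2 b b.2) }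
  have := Fintype.ofFinite X
  have := Fintype.ofFinite (Additive X)
  rw [← Nat.card_congr (dualEquiv (E := X)), Nat.card_eq_fintype_card, AddChar.card_eq, Nat.card_eq_fintype_card]
  exact Fintype.card_congr Additive.toMul

/-- **all non-identity elements conjugate** (equal traces) -/
theorem codim_conj {X : Subgroup G} [Finite X] (hE : ∀ a ∈ X, ∀ b ∈ X, a * b = b * a)
    (htr : ∀ a ∈ X, ∀ b ∈ X, a ≠ 1 → b ≠ 1 → LinearMap.trace ℂ U (ρ a) = LinearMap.trace ℂ U (ρ b))
    (hne : fx ρ X ≠ ⊤) : finrank ℂ (fx ρ X) + (Nat.card X - 1) ≤ finrank ℂ U := by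
  classical
  have := Fintype.ofFinite X
  have hfin := finite_chars hE
  have := Fintype.ofFinite (X →* ℂˣ)
  have hX : (X : Subgroup G) ≠ ⊥ := by
    rintro rfl
    apply hne
    rw [eq_top_iff]
    intro v _ g hg
    rw [mem_bot.1 hg, map_one, Module.End.one_apply]
  obtain ⟨x0, hx0⟩ := ne_bot_iff_exists_ne_one.1 hX
  have hx0' : (x0 : G) ≠ 1 := fun h => hx0 (Subtype.ext h)
  set t := LinearMap.trace ℂ U (ρ x0) with ht
  -- all multiplicities of nontrivial weights are equal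
  have hm : ∀ lam : X →* ℂˣ, lam ≠ 1 → (Fintype.card X : ℂ) * finrank ℂ (wt ρ X lam) = finrank ℂ U - t := by
    intro lam hlam
    rw [← sum_trace_wt ρ X lam]
    have h1 : ∀ x : X, (((lam x)⁻¹ : ℂˣ) : ℂ) * LinearMap.trace ℂ U (ρ x) =
        (((lam x)⁻¹ : ℂˣ) : ℂ) * t + (if x = 1 then (finrank ℂ U - t : ℂ) else 0) := by
      intro x
      by_cases hx : x = 1
      · rw [if_pos hx, hx, map_one, OneMemClass.coe_one, map_one, LinearMap.trace_one, inv_one, Units.val_one]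
        ring
      · rw [if_neg hx, add_zero, htr x x.2 x0 x0.2 (fun h => hx (Subtype.ext h)) hx0']
    rw [Finset.sum_congr rfl fun x _ => h1 x, Finset.sum_add_distrib, ← Finset.sum_mul, sum_char hlam, zero_mul,
      zero_add, Finset.sum_ite_eq' Finset.univ (1 : X), if_pos (Finset.mem_univ _)]
  have hsum := sum_wt ρ hE
  have hlt : finrank ℂ (fx ρ X) < finrank ℂ U := Submodule.finrank_lt hne
  obtain ⟨lam, hlam, hpos⟩ : ∃ lam : X →* ℂˣ, lam ≠ 1 ∧ 1 ≤ finrank ℂ (wt ρ X lam) := by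
    by_contra hcon
    push Not at hcon
    have h1 : ∑ lam : X →* ℂˣ, finrank ℂ (wt ρ X lam) = finrank ℂ (wt ρ X 1) := by
      refine Finset.sum_eq_single 1 (fun lam _ hl => ?_) (fun h => absurd (Finset.mem_univ _) h)
      have := hcon lam hl
      omega
    rw [wt_one] at h1
    omega
  have heq : ∀ mu : X →* ℂˣ, mu ≠ 1 → finrank ℂ (wt ρ X mu) = finrank ℂ (wt ρ X lam) := by
    intro mu hmu
    have h1 := mul_left_cancel₀ (card_ne X) ((hm mu hmu).trans (hm lam hlam).symm)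
    exact_mod_cast h1
  rw [← hsum, ← Finset.add_sum_erase Finset.univ _ (Finset.mem_univ (1 : X →* ℂˣ)), wt_one]
  refine Nat.add_le_add_left ?_ _
  calc Nat.card X - 1 = (Finset.univ.erase (1 : X →* ℂˣ)).card := by
        rw [Finset.card_erase_of_mem (Finset.mem_univ _), Finset.card_univ, ← Nat.card_eq_fintype_card, card_dual hE]
    _ = ∑ _mu ∈ Finset.univ.erase (1 : X →* ℂˣ), 1 := by rw [Finset.sum_const, smul_eq_mul, mul_one]
    _ ≤ ∑ mu ∈ Finset.univ.erase (1 : X →* ℂˣ), finrank ℂ (wt ρ X mu) := by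
        refine Finset.sum_le_sum fun mu hmu => ?_
        rw [heq mu (Finset.ne_of_mem_erase hmu)]
        exact hpos

/-- **Frobenius identity**: `Y0 ≤ Y ≤ N(E)`, the elements of `Y \ Y0` act without fixed points on `E` -/
theorem frob_identity {E Y Y0 : Subgroup G} [Finite E] [Finite Y] (hY : Y ≤ normalizer (E : Set G)) (h0 : Y0 ≤ Y)
    (hC : ∀ y ∈ Y, y ∉ Y0 → ∀ e ∈ E, y * e = e * y → e = 1) :
    Nat.card Y * finrank ℂ ↥(fx ρ E ⊓ fx ρ Y) + Nat.card Y0 * finrank ℂ (fx ρ Y0) =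
      Nat.card Y * finrank ℂ (fx ρ Y) + Nat.card Y0 * finrank ℂ ↥(fx ρ E ⊓ fx ρ Y0) := by
  classical
  have := Fintype.ofFinite E
  have := Fintype.ofFinite Y
  have : Finite Y0 := Finite.of_injective _ (inclusion_injective h0)
  have := Fintype.ofFinite Y0
  let F : G → ℂ := fun y => ∑ e : E, LinearMap.trace ℂ U (ρ (e * y))
  have h1 : ∑ y : Y, F y = (Fintype.card E : ℂ) * (Fintype.card Y : ℂ) * finrank ℂ ↥(fx ρ E ⊓ fx ρ Y) :=
    sum_sum_trace ρ hY
  have h2 : ∑ y : Y0, F y = (Fintype.card E : ℂ) * (Fintype.card Y0 : ℂ) * finrank ℂ ↥(fx ρ E ⊓ fx ρ Y0) :=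
    sum_sum_trace ρ (h0.trans hY)
  have h3 := sum_trace_fx ρ Y
  have h4 := sum_trace_fx ρ Y0
  -- sums over `Y` and `Y0`
  have key : ∀ f : G → ℂ, ∑ y : Y, f (y : G) = ∑ y : Y0, f (y : G) +
      ∑ y ∈ (Finset.univ : Finset Y).filter (fun y : Y => (y : G) ∉ Y0), f (y : G) := by
    intro f
    rw [← Finset.sum_filter_add_sum_filter_not Finset.univ (fun y : Y => (y : G) ∈ Y0)]
    congr 1
    refine Finset.sum_bij' (fun y hy => (⟨y, (Finset.mem_filter.1 hy).2⟩ : Y0)) (fun y _ => (⟨y, h0 y.2⟩ : Y)) ?_ ?_ ?_ ?_ ?_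
    · intro y _; exact Finset.mem_univ _
    · intro y _; exact Finset.mem_filter.2 ⟨Finset.mem_univ _, y.2⟩
    · intro y _; rfl
    · intro y _; rfl
    · intro y _; rfl
  have h5 : ∑ y ∈ (Finset.univ : Finset Y).filter (fun y : Y => (y : G) ∉ Y0), F (y : G) = (Fintype.card E : ℂ) *
      ∑ y ∈ (Finset.univ : Finset Y).filter (fun y : Y => (y : G) ∉ Y0), LinearMap.trace ℂ U (ρ (y : G)) := by
    rw [Finset.mul_sum]
    refine Finset.sum_congr rfl fun y hy => ?_
    exact sum_trace_eq ρ (hY y.2) (hC y y.2 (Finset.mem_filter.1 hy).2)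
  rw [key F, h5] at h1
  rw [key (fun y => LinearMap.trace ℂ U (ρ y))] at h3
  rw [h2] at h1
  rw [h4] at h3
  have hE := card_ne E
  have h6 : (Fintype.card Y : ℂ) * finrank ℂ ↥(fx ρ E ⊓ fx ρ Y) + (Fintype.card Y0 : ℂ) * finrank ℂ (fx ρ Y0) =
      (Fintype.card Y : ℂ) * finrank ℂ (fx ρ Y) + (Fintype.card Y0 : ℂ) * finrank ℂ ↥(fx ρ E ⊓ fx ρ Y0) := by
    apply mul_left_cancel₀ hE
    linear_combination (-1 : ℂ) * h1 + (Fintype.card E : ℂ) * h3
  rw [Nat.card_eq_fintype_card, Nat.card_eq_fintype_card]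
  exact_mod_cast h6

/-- **Frobenius bound**: a `p`-group `Y` acting nontrivially on a group `E` of prime order -/
theorem frob_gen {E Y : Subgroup G} {p r : ℕ} (hp : p.Prime) (hr : r.Prime) (hE : Nat.card E = r) [Finite Y]
    (hYp : IsPGroup p Y) (hY : Y ≤ normalizer (E : Set G)) (hne : ¬ Y ≤ centralizer (E : Set G)) :
    p * finrank ℂ (fx ρ Y) ≤ finrank ℂ U + (p - 1) * finrank ℂ (fx ρ E) := by
  have hfE : Finite E := Nat.finite_of_card_ne_zero (by rw [hE]; exact hr.ne_zero)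
  set Y0 : Subgroup G := Y ⊓ centralizer (E : Set G) with hY0
  have h0 : Y0 ≤ Y := inf_le_left
  have hC : ∀ y ∈ Y, y ∉ Y0 → ∀ e ∈ E, y * e = e * y → e = 1 := by
    intro y hy hy0 e he hye
    by_contra he1
    apply hy0
    refine mem_inf.2 ⟨hy, ?_⟩
    have h1 : zpowers e = E := by
      have hle : zpowers e ≤ E := by rw [zpowers_le]; exact he
      apply eq_of_le_of_card_ge hle
      have hd := card_dvd_of_le hle
      rw [hE, Nat.dvd_prime hr] at hd
      rcases hd with hd | hd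
      · exfalso
        rw [Nat.card_zpowers, orderOf_eq_one_iff] at hd
        exact he1 hd
      · rw [hd, hE]
    rw [mem_centralizer_iff]
    intro a ha
    rw [SetLike.mem_coe, ← h1] at ha
    obtain ⟨k, rfl⟩ := mem_zpowers_iff.1 ha
    exact ((show Commute y e from hye).zpow_right k).eq.symm
  have hid := frob_identity ρ hY h0 hC
  -- `p |Y0| ≤ |Y|`
  obtain ⟨m, hm⟩ : ∃ m, Nat.card Y = Nat.card Y0 * m := card_dvd_of_le h0
  obtain ⟨n, hn⟩ : ∃ n, Nat.card Y = p ^ n := by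
    have : Fact p.Prime := ⟨hp⟩
    exact IsPGroup.iff_card.1 hYp
  have hY0pos : 0 < Nat.card Y0 := by
    have : Finite Y0 := Finite.of_injective _ (inclusion_injective h0)
    exact Nat.card_pos
  have hm1 : m ≠ 1 := by
    rintro rfl
    rw [mul_one] at hm
    have h1 : Y0 = Y := eq_of_le_of_card_ge h0 hm.le
    apply hne
    rw [← h1]
    exact inf_le_right
  have hpm : p ≤ m := by
    have h1 : m ∣ p ^ n := by rw [← hn, hm]; exact Dvd.intro_left _ rfl
    obtain ⟨k, -, hk⟩ := (Nat.dvd_prime_pow hp).1 h1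
    rcases Nat.eq_zero_or_pos k with rfl | hk0
    · exact absurd hk hm1
    · rw [hk]
      exact Nat.le_self_pow hk0.ne' p
  rw [hm, mul_assoc, mul_assoc, ← mul_add, ← mul_add] at hid
  have hid2 := Nat.eq_of_mul_eq_mul_left hY0pos hid
  -- `i ≤ j ≤ f(E)`, `f(Y0) - j ≤ d - f(E)`
  set i := finrank ℂ ↥(fx ρ E ⊓ fx ρ Y) with hi
  set j := finrank ℂ ↥(fx ρ E ⊓ fx ρ Y0) with hj
  set a := finrank ℂ (fx ρ Y) with ha
  set b := finrank ℂ (fx ρ Y0) with hb
  set c := finrank ℂ (fx ρ E) with hc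
  set d := finrank ℂ U with hd
  have hle1 : i ≤ j := Submodule.finrank_mono (inf_le_inf_left _ (fun v hv g hg => hv g (h0 hg)))
  have hle2 : j ≤ c := Submodule.finrank_mono inf_le_left
  have hle3 : c + b ≤ d + j := by
    have h1 := Submodule.finrank_sup_add_finrank_inf_eq (fx ρ E) (fx ρ Y0)
    have h2 := Submodule.finrank_le (fx ρ E ⊔ fx ρ Y0)
    omega
  have hle4 : j ≤ b := Submodule.finrank_mono inf_le_right
  -- `m i + b = m a + j`
  obtain ⟨b', hb'⟩ := Nat.exists_eq_add_of_le hle4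
  have h7 : m * a = m * i + b' := by omega
  have h8 : b' + c ≤ d := by omega
  -- `p a ≤ p i + b'`
  have h9 : i ≤ a := Submodule.finrank_mono inf_le_right
  obtain ⟨a', ha'⟩ := Nat.exists_eq_add_of_le h9
  have h10 : m * a' = b' := by
    have h11 : m * a = m * i + m * a' := by rw [ha', mul_add]
    omega
  have h12 : p * a' ≤ b' := by rw [← h10]; exact Nat.mul_le_mul_right _ hpm
  obtain ⟨p', hp'⟩ : ∃ p', p = p' + 1 := ⟨p - 1, by have := hp.pos; omega⟩
  have h13 : p * a = p * i + p * a' := by rw [ha', mul_add]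
  have h14 : p * i ≤ p * c := Nat.mul_le_mul_left _ (hle1.trans hle2)
  have h15 : p * c = (p - 1) * c + c := by rw [hp', Nat.add_sub_cancel]; ring
  omega

end rep

/-! ### lifts -/

section lift

variable {G S : Type} [Group G] [Finite G] [Group S] [Finite S] {ψ : G →* S}

/-- the lift of a `p`-element of a given order, with its conjugates -/
theorem isConj_lift (hψ : IsCover ψ) {r : ℕ} (hr : r.Prime) (hk : ¬ r ∣ Nat.card ψ.ker) {a b : G}
    (ha : a ^ r = 1) (hb : b ^ r = 1) (h : IsConj (ψ a) (ψ b)) : IsConj a b := by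
  obtain ⟨c, hc⟩ := isConj_iff.1 h
  obtain ⟨g, rfl⟩ := hψ.surj c
  rw [isConj_iff]
  refine ⟨g, ?_⟩
  set z := (g * a * g⁻¹) * b⁻¹ with hz
  have hzk : z ∈ ψ.ker := by
    rw [MonoidHom.mem_ker, hz, map_mul, map_mul, map_mul, map_inv, map_inv, hc, mul_inv_cancel]
  have hzc := Subgroup.mem_center_iff.1 (hψ.central hzk)
  have h1 : g * a * g⁻¹ = z * b := by rw [hz]; group
  have h2 : (g * a * g⁻¹) ^ r = 1 := by rw [conj_pow, ha, mul_one, mul_inv_cancel]
  have h3 : z ^ r = 1 := by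
    rw [h1, (show Commute z b from (hzc b).symm).mul_pow, hb, mul_one] at h2
    exact h2
  have h4 : orderOf z ∣ r := orderOf_dvd_of_pow_eq_one h3
  have h5 : orderOf z ∣ Nat.card ψ.ker := by
    have h6 := _root_.orderOf_dvd_natCard (⟨z, hzk⟩ : ψ.ker)
    rwa [← Subgroup.orderOf_coe] at h6
  have h6 : z = 1 := by
    rcases (Nat.dvd_prime hr).1 h4 with h7 | h7
    · exact orderOf_eq_one_iff.1 h7
    · rw [h7] at h5
      exact absurd h5 hk
  rw [h1, h6, one_mul]

/-- the preimage of an abelian subgroup of exponent `r` -/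
theorem exists_lift_ab (hψ : IsCover ψ) {r : ℕ} (hr : r.Prime) (hk : ¬ r ∣ Nat.card ψ.ker) (X : Subgroup S)
    (hab : ∀ a ∈ X, ∀ b ∈ X, a * b = b * a) (hexp : ∀ a ∈ X, a ^ r = 1) :
    ∃ Y : Subgroup G, IsPGroup r Y ∧ Y.map ψ = X ∧ Nat.card Y = Nat.card X ∧ (∀ y ∈ Y, ψ y ∈ X) ∧
      (∀ y ∈ Y, ψ y = 1 → y = 1) ∧ (∀ a ∈ Y, ∀ b ∈ Y, a * b = b * a) ∧ (∀ a ∈ Y, a ^ r = 1) := by
  have hXp : IsPGroup r X := by
    intro a
    refine ⟨1, ?_⟩
    rw [pow_one]
    exact Subtype.ext (hexp a a.2)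
  obtain ⟨Y, hY, hYX, hcard, hinj⟩ := Cfsg.Agent.H245.QA.exists_lift_pGroup hψ.surj hr hk X hXp
  have hYm : ∀ y ∈ Y, ψ y ∈ X := fun y hy => by rw [← hYX]; exact ⟨y, hy, rfl⟩
  refine ⟨Y, hY, hYX, hcard, hYm, hinj, ?_, fun a ha => hinj _ (pow_mem ha r) (by rw [map_pow, hexp _ (hYm a ha)])⟩
  intro a ha b hb
  have h1 := hinj (a * b * (b * a)⁻¹) (mul_mem (mul_mem ha hb) (inv_mem (mul_mem hb ha))) (by
    rw [map_mul, map_inv, map_mul, map_mul, hab _ (hYm a ha) _ (hYm b hb), mul_inv_cancel])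
  rwa [mul_inv_eq_one] at h1

/-- a lifted subgroup acts nontrivially -/
theorem fx_ne_top [IsSimpleGroup S] (hψ : IsCover ψ) {M : Type} [AddCommGroup M] [Module ℂ M]
    (ρ : Representation ℂ G M) (hρ : ∃ g, ρ g ≠ 1) (Y : Subgroup G) (hY : ∀ y ∈ Y, ψ y = 1 → y = 1)
    (hne : Y ≠ ⊥) : fx ρ Y ≠ ⊤ := by
  intro h
  apply hne
  rw [eq_bot_iff]
  intro y hy
  rw [mem_bot]
  apply hY y hy
  have h1 : y ∈ MonoidHom.ker (ρ : G →* _) := by
    rw [MonoidHom.mem_ker]
    ext v
    have hv : v ∈ fx ρ Y := by rw [h]; trivial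
    exact hv y hy
  exact ker_le_of_simple hψ ρ hρ h1

/-- **degree bound** from an abelian `r`-subgroup with all non-identity elements conjugate -/
theorem minDeg_conj [IsSimpleGroup S] (hψ : IsCover ψ) {r : ℕ} (hr : r.Prime) (hk : ¬ r ∣ Nat.card ψ.ker)
    (X : Subgroup S) (hab : ∀ a ∈ X, ∀ b ∈ X, a * b = b * a) (hexp : ∀ a ∈ X, a ^ r = 1) (hne : X ≠ ⊥)
    (hcj : ∀ a ∈ X, ∀ b ∈ X, a ≠ 1 → b ≠ 1 → IsConj a b) : Cfsg.Agent.H122.MinDeg G (Nat.card X - 1) := by
  obtain ⟨Y, hY, hYX, hcard, hYm, hinj, hYab, hYr⟩ := exists_lift_ab hψ hr hk X hab hexp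
  intro M _ _ _ ρ hρ
  have hYne : Y ≠ ⊥ := by
    rintro rfl
    rw [Subgroup.card_bot] at hcard
    exact hne (Subgroup.card_eq_one.1 hcard.symm)
  have h1 := codim_conj ρ hYab (fun a ha b hb ha1 hb1 => by
    have h2 : IsConj b a := isConj_lift hψ hr hk (hYr b hb) (hYr a ha)
      (hcj _ (hYm b hb) _ (hYm a ha) (fun h => hb1 (hinj b hb h)) (fun h => ha1 (hinj a ha h)))
    obtain ⟨c, rfl⟩ := isConj_iff.1 h2
    have h3 : ρ (c * b * c⁻¹) = ρ (c * b) * ρ c⁻¹ := map_mul ρ _ _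
    rw [h3, LinearMap.trace_mul_comm, ← map_mul, inv_mul_cancel_left])
    (fx_ne_top hψ ρ hρ Y hinj hYne)
  rw [hcard] at h1
  omega

end lift

/-! ### criteria -/

section crit2

variable {p q : ℕ} {G V S : Type} [Group G] [Finite G] [AddCommGroup V] [Finite V] [DistribMulAction G V]
  [Group S] [Finite S] {ψ : G →* S}

theorem not_dvd_ker (h : PSit p q G V) (hψ : IsCover ψ) : ¬ p ∣ Nat.card ψ.ker :=
  fun hd => h.pZ (hd.trans (Subgroup.card_dvd_of_le hψ.central))

/-- the complex representation, with all bounds -/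
structure Cx (p q : ℕ) (G V S : Type) [Group G] [Finite G] [AddCommGroup V] [Finite V] [DistribMulAction G V]
    [Group S] (ψ : G →* S) (B d : ℕ) (ρ : Representation ℂ G (Fin d → ℂ)) : Prop where
  card : Nat.card V = q ^ d
  fix : ∀ X : Subgroup G, Nat.card (fixV G V X) = q ^ finrank ℂ (fx ρ X)
  lt : ∀ X : Subgroup G, X ≠ ⊥ → finrank ℂ (fx ρ X) < d
  top : finrank ℂ (fx ρ (⊤ : Subgroup G)) = 0
  le : B ≤ d
  idx : ∀ X : Subgroup G, IsPGroup p X →
    q ^ (d - finrank ℂ (fx ρ X)) ≤ (Subgroup.normalizer ((X.map ψ : Subgroup S) : Set S)).index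
  ch : ∀ (X : Subgroup G) (c : ℕ),
    (∀ x ∈ X, x ≠ 1 → Nat.card (Subgroup.centralizer ({ψ x} : Set S)) ≤ c ^ 2) →
    (Nat.card X - 1) * (B - c) ≤ Nat.card X * (d - finrank ℂ (fx ρ X))

theorem exists_cx (h : PSit p q G V) (hψ : IsCover ψ) {B : ℕ} (hB : Cfsg.Agent.H122.MinDeg G B) :
    ∃ (d : ℕ) (ρ : Representation ℂ G (Fin d → ℂ)), Cx p q G V S ψ B d ρ := by
  have hnt := h.nt
  obtain ⟨d, ρ, hd, hfx, hlt⟩ := exists_fx h.hq h.exp h.qG h.faith
  have hfix := PSit.fixV_top h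
  obtain ⟨d2, d', τ, hd2, hτ, hd'2, -, hdd, hf⟩ := Cfsg.Agent.H245.QA.exists_irr_gen h.hq h.exp h.qG hfix hψ
    (B := 2) (fun _ _ _ _ _ _ _ _ h => h)
  have hBd := hB.irr d' τ hτ hd'2
  have hdeq : d2 = d := Nat.pow_right_injective h.hq.two_le (by
    show q ^ d2 = q ^ d
    rw [← hd2, hd])
  have hle : ∀ X : Subgroup G, finrank ℂ (fx ρ X) ≤ d := fun X => by
    have := Submodule.finrank_le (fx ρ X)
    rwa [Module.finrank_fin_fun] at this
  refine ⟨d, ρ, hd, hfx, hlt, ?_, ?_, ?_, ?_⟩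
  · have h1 := hfx ⊤
    rw [hfix, AddSubgroup.card_bot] at h1
    by_contra h4
    have h5 := Nat.one_lt_pow h4 h.hq.one_lt
    omega
  · omega
  · intro X hX
    have h2 := Cfsg.Agent.H245.QA.card_le h.hp h.P1 X hX
    have h3 : q ^ d = q ^ (d - finrank ℂ (fx ρ X)) * q ^ finrank ℂ (fx ρ X) := by
      rw [← pow_add]
      congr 1
      have := hle X
      omega
    rw [hfx X, hd, h3] at h2
    rw [← Cfsg.Agent.H245.QA.index_normalizer hψ.surj hψ.central h.hp (not_dvd_ker h hψ) X hX]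
    exact Nat.le_of_mul_le_mul_right h2 (Nat.pow_pos h.hq.pos)
  · intro X c hc
    obtain ⟨f, hf1, hf2, hf3⟩ := hf X
    have hfeq : f = finrank ℂ (fx ρ X) := Nat.pow_right_injective h.hq.two_le (by
      show q ^ f = q ^ finrank ℂ (fx ρ X)
      rw [← hf1, hfx])
    rw [hdeq, hfeq] at hf3
    have h4 : Nat.card X * finrank ℂ (Cfsg.Agent.H245.QA.fixR τ X) ≤ d' + (Nat.card X - 1) * c := by
      apply Cfsg.Agent.H245.QA.card_mul_fix_le
      intro y hy hy1
      have h5 := Cfsg.Agent.H245.QA.norm_sq_le hψ τ hτ y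
      have h6 := hc y hy hy1
      have h7 : ‖τ.character y‖ ^ 2 ≤ (c : ℝ) ^ 2 := h5.trans (by exact_mod_cast h6)
      exact (sq_le_sq₀ (norm_nonneg _) (Nat.cast_nonneg c)).1 h7
    obtain ⟨m, hm⟩ : ∃ m, Nat.card X = m + 1 := ⟨Nat.card X - 1, by have := Nat.card_pos (α := X); omega⟩
    rw [hm] at h4 ⊢
    rw [Nat.add_sub_cancel] at h4 ⊢
    rcases Nat.le_total B c with hBc | hBc
    · rw [Nat.sub_eq_zero_of_le hBc, mul_zero]; exact Nat.zero_le _
    set a := finrank ℂ (Cfsg.Agent.H245.QA.fixR τ X) with ha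
    obtain ⟨b, hb⟩ : ∃ b, B = c + b := ⟨B - c, by omega⟩
    have h8 : B - c = b := by omega
    rw [h8]
    obtain ⟨k, hk⟩ : ∃ k, d = finrank ℂ (fx ρ X) + k := ⟨d - finrank ℂ (fx ρ X), by have := hle X; omega⟩
    have h9 : d - finrank ℂ (fx ρ X) = k := by omega
    rw [h9]
    have h10 : d' ≤ k + a := by omega
    have h11 : (m + 1) * d' ≤ (m + 1) * (k + a) := Nat.mul_le_mul_left _ h10
    have h12 : m * (c + b) ≤ m * d' := Nat.mul_le_mul_left _ (by omega)
    linarith only [h4, h11, h12]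

omit [Finite S] in
/-- elements of a group of prime order -/
theorem mem_zpowers_of {r : ℕ} (hr : r.Prime) {x y : S} (hx : orderOf x = r) (hy : y ∈ zpowers x) (hy1 : y ≠ 1) :
    zpowers y = zpowers x := by
  have hfin : Finite (zpowers x) := Nat.finite_of_card_ne_zero (by rw [Nat.card_zpowers, hx]; exact hr.ne_zero)
  have hle : zpowers y ≤ zpowers x := by rw [zpowers_le]; exact hy
  apply eq_of_le_of_card_ge hle
  have hd := card_dvd_of_le hle
  rw [Nat.card_zpowers x, hx, Nat.dvd_prime hr] at hd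
  rcases hd with hd | hd
  · exfalso
    rw [Nat.card_zpowers, orderOf_eq_one_iff] at hd
    exact hy1 hd
  · rw [hd, Nat.card_zpowers, hx]

theorem card_cent_le {r c : ℕ} (hr : r.Prime) {x y : S} (hx : orderOf x = r)
    (hc : Nat.card (centralizer ({x} : Set S)) ≤ c) (hy : y ∈ zpowers x) (hy1 : y ≠ 1) :
    Nat.card (centralizer ({y} : Set S)) ≤ c := by
  refine le_trans ?_ hc
  refine Nat.card_le_card_of_injective (Subgroup.inclusion ?_) (Subgroup.inclusion_injective _)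
  have h2 : x ∈ zpowers y := by
    rw [mem_zpowers_of hr hx hy hy1]
    exact mem_zpowers x
  obtain ⟨k, hk⟩ := mem_zpowers_iff.1 h2
  intro g hg
  rw [mem_centralizer_singleton_iff] at hg ⊢
  rw [← hk]
  exact ((show Commute g y from hg).zpow_right k).eq

/-- bound for exponents -/
theorem le_log {q q0 k m : ℕ} (hq0 : 2 ≤ q0) (hq : q0 ≤ q) (h : q ^ k ≤ m) : k ≤ Nat.log q0 m := by
  have h1 : q0 ^ k ≤ m := (Nat.pow_le_pow_left hq k).trans h
  have h2 : m ≠ 0 := by
    have := Nat.pow_pos (n := k) (show 0 < q0 by omega)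
    omega
  exact Nat.le_log_of_pow_le (by omega) h1

/-- index and order of the normalizer -/
theorem index_le {N n : ℕ} (hN : Nat.card S = N) (hn0 : 0 < n) (H : Subgroup S) (hn : n ≤ Nat.card H) :
    H.index ≤ N / n := by
  rw [Nat.le_div_iff_mul_le hn0, ← hN, ← Subgroup.card_mul_index H, mul_comm]
  exact Nat.mul_le_mul_right _ hn

/-- **CH**: `z` of order `p` with `|C(z)| ≤ s²`, `n ≤ |N(⟨z⟩)|` -/
theorem PSit.no_ch (h : PSit p q G V) (hψ : IsCover ψ) {B s n N q0 : ℕ} (hB : Cfsg.Agent.H122.MinDeg G B)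
    (hq2 : 2 ≤ q0) (hq0 : q0 ≤ q) (hN : Nat.card S = N) {z : S} (hz : orderOf z = p)
    (hs : Nat.card (centralizer ({z} : Set S)) ≤ s ^ 2) (hn0 : 0 < n)
    (hn : n ≤ Nat.card (normalizer (zpowers z : Set S))) (hnum : p * Nat.log q0 (N / n) < (p - 1) * (B - s)) : False := by
  obtain ⟨d, ρ, hc⟩ := exists_cx h hψ hB
  have hXp : IsPGroup p (zpowers z) := IsPGroup.of_card (n := 1) (by rw [Nat.card_zpowers, hz, pow_one])
  obtain ⟨Y, hY, hYX, hcard, hinj⟩ := Cfsg.Agent.H245.QA.exists_lift_pGroup hψ.surj h.hp (not_dvd_ker h hψ) _ hXp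
  have h1 := hc.idx Y hY
  rw [hYX] at h1
  have h2 := le_log hq2 hq0 (h1.trans (index_le hN hn0 _ hn))
  have h3 := hc.ch Y s fun y hy hy1 => card_cent_le h.hp hz hs (by
    have h4 : ψ y ∈ Y.map ψ := ⟨y, hy, rfl⟩
    rwa [hYX] at h4) (fun h5 => hy1 (hinj y hy h5))
  rw [hcard, Nat.card_zpowers, hz] at h3
  have h4 := Nat.mul_le_mul_left p h2
  omega

/-- **Frobenius**: a `p`-element `y` acting nontrivially on `⟨g⟩` of prime order `r` with `|C(g)| ≤ s²` -/
theorem PSit.no_fr (h : PSit p q G V) (hψ : IsCover ψ) {B s N q0 r : ℕ} (hB : Cfsg.Agent.H122.MinDeg G B)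
    (hq2 : 2 ≤ q0) (hq0 : q0 ≤ q) (hN : Nat.card S = N) (hr : r.Prime) (hrk : ¬ r ∣ Nat.card ψ.ker) {g y : S}
    (hg : orderOf g = r) (hs : Nat.card (centralizer ({g} : Set S)) ≤ s ^ 2) (hy : ∃ k : ℕ, orderOf y = p ^ k)
    (hyg : y * g * y⁻¹ ∈ zpowers g) (hne : y * g ≠ g * y)
    (hnum : r * (p * Nat.log q0 N) < (p - 1) * ((r - 1) * (B - s))) : False := by
  obtain ⟨d, ρ, hc⟩ := exists_cx h hψ hB
  have hpf : Fact p.Prime := ⟨h.hp⟩
  have hXp : IsPGroup p (zpowers y) := by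
    obtain ⟨k, hk⟩ := hy
    exact IsPGroup.of_card (n := k) (by rw [Nat.card_zpowers, hk])
  obtain ⟨Y, hY, hYX, hcardY, hinjY⟩ := Cfsg.Agent.H245.QA.exists_lift_pGroup hψ.surj h.hp (not_dvd_ker h hψ) _ hXp
  have hEp : IsPGroup r (zpowers g) := IsPGroup.of_card (n := 1) (by rw [Nat.card_zpowers, hg, pow_one])
  obtain ⟨E, hE, hEX, hcardE, hinjE⟩ := Cfsg.Agent.H245.QA.exists_lift_pGroup hψ.surj hr hrk _ hEp
  rw [Nat.card_zpowers, hg] at hcardE
  -- `y` normalises `⟨g⟩`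
  have hyN : y ∈ normalizer (zpowers g : Set S) := by
    have hfin : Finite (zpowers g) := inferInstance
    have h1 : (zpowers g).map (MulAut.conj y).toMonoidHom = zpowers g := by
      apply eq_of_le_of_card_ge
      · rw [MonoidHom.map_zpowers, zpowers_le]
        exact hyg
      · rw [Subgroup.card_map_of_injective (MulAut.conj y).injective]
    rw [mem_normalizer_iff]
    intro t
    constructor
    · intro ht
      rw [← h1]
      exact ⟨t, ht, rfl⟩
    · intro ht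
      have h2 : y * t * y⁻¹ ∈ (zpowers g).map (MulAut.conj y).toMonoidHom := by rw [h1]; exact ht
      obtain ⟨t', ht', h3⟩ := h2
      have h4 : t' = t := (MulAut.conj y).injective h3
      rwa [← h4]
  have hYN : Y ≤ normalizer (E : Set G) := by
    intro w hw
    rw [Cfsg.Agent.H245.QA.mem_normalizer_iff_map hψ.central hr hrk E hE w, hEX]
    have h1 : ψ w ∈ Y.map ψ := ⟨w, hw, rfl⟩
    rw [hYX] at h1
    exact (zpowers_le.2 hyN) h1
  have hYC : ¬ Y ≤ centralizer (E : Set G) := by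
    intro hle
    apply hne
    have h1 : y ∈ Y.map ψ := by rw [hYX]; exact mem_zpowers y
    have h2 : g ∈ E.map ψ := by rw [hEX]; exact mem_zpowers g
    obtain ⟨y', hy', rfl⟩ := h1
    obtain ⟨g', hg', rfl⟩ := h2
    have h3 := mem_centralizer_iff.1 (hle hy') g' hg'
    rw [← map_mul, ← map_mul, h3]
  have h1 := frob_gen ρ h.hp hr hcardE hY hYN hYC
  rw [Module.finrank_fin_fun] at h1
  have h2 := hc.idx Y hY
  have h3 : (normalizer ((Y.map ψ : Subgroup S) : Set S)).index ≤ N := by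
    rw [← hN, ← Subgroup.card_mul_index (normalizer ((Y.map ψ : Subgroup S) : Set S))]
    exact Nat.le_mul_of_pos_left _ Nat.card_pos
  have h4 := le_log hq2 hq0 (h2.trans h3)
  have h5 := hc.ch E s fun x hx hx1 => card_cent_le hr hg hs (by
    have h6 : ψ x ∈ E.map ψ := ⟨x, hx, rfl⟩
    rwa [hEX] at h6) (fun h6 => hx1 (hinjE x hx h6))
  rw [hcardE] at h5
  -- arithmetic
  have hle1 : finrank ℂ (fx ρ Y) ≤ d := by
    have := Submodule.finrank_le (fx ρ Y)
    rwa [Module.finrank_fin_fun] at this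
  have hle2 : finrank ℂ (fx ρ E) ≤ d := by
    have := Submodule.finrank_le (fx ρ E)
    rwa [Module.finrank_fin_fun] at this
  obtain ⟨k, hk⟩ : ∃ k, d = finrank ℂ (fx ρ Y) + k := ⟨d - finrank ℂ (fx ρ Y), by omega⟩
  obtain ⟨D, hD⟩ : ∃ D, d = finrank ℂ (fx ρ E) + D := ⟨d - finrank ℂ (fx ρ E), by omega⟩
  have hk' : d - finrank ℂ (fx ρ Y) = k := by omega
  have hD' : d - finrank ℂ (fx ρ E) = D := by (clear * - hD; omega)
  rw [hk'] at h4
  rw [hD'] at h5
  obtain ⟨p', hp'⟩ : ∃ p', p = p' + 1 := ⟨p - 1, by have := h.hp.pos; omega⟩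
  -- `(p - 1) D ≤ p k`
  have h7 : (p - 1) * D ≤ p * k := by
    have h8 : p * d = p * finrank ℂ (fx ρ Y) + p * k := by conv_lhs => rw [hk, mul_add]
    have h9 : (p - 1) * d = (p - 1) * finrank ℂ (fx ρ E) + (p - 1) * D := by conv_lhs => rw [hD, mul_add]
    have h10 : p * d = (p - 1) * d + d := by rw [hp', Nat.add_sub_cancel]; ring
    omega
  have h8 : (p - 1) * ((r - 1) * (B - s)) ≤ (p - 1) * (r * D) := Nat.mul_le_mul_left _ h5
  have h9 : (p - 1) * (r * D) = r * ((p - 1) * D) := by ring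
  have h10 : r * ((p - 1) * D) ≤ r * (p * k) := Nat.mul_le_mul_left _ h7
  have h11 : r * (p * k) ≤ r * (p * Nat.log q0 N) := Nat.mul_le_mul_left _ (Nat.mul_le_mul_left _ h4)
  omega

/-- **generation** by `p`-elements `z.1` with `|S : N(⟨z.1⟩)| ≤ z.2` -/
theorem PSit.no_gen [IsSimpleGroup S] (h : PSit p q G V) (hψ : IsCover ψ) {B q0 : ℕ} (hB : Cfsg.Agent.H122.MinDeg G B)
    (hq2 : 2 ≤ q0) (hq0 : q0 ≤ q) (l : List (S × ℕ))
    (hl : ∀ z ∈ l, (∃ k : ℕ, orderOf z.1 = p ^ k) ∧ (normalizer (zpowers z.1 : Set S)).index ≤ z.2)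
    (hgen : ∀ H : Subgroup S, (∀ z ∈ l, z.1 ∈ H) → H = ⊤)
    (hnum : (l.map fun z => Nat.log q0 z.2).sum < B) : False := by
  obtain ⟨d, ρ, hc⟩ := exists_cx h hψ hB
  have hpf : Fact p.Prime := ⟨h.hp⟩
  have key : ∀ l : List (S × ℕ), (∀ z ∈ l, (∃ k : ℕ, orderOf z.1 = p ^ k) ∧
      (normalizer (zpowers z.1 : Set S)).index ≤ z.2) → ∃ T : Subgroup G, (∀ z ∈ l, z.1 ∈ T.map ψ) ∧
      d ≤ finrank ℂ (fx ρ T) + (l.map fun z => Nat.log q0 z.2).sum := by
    intro l
    induction l with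
    | nil =>
      intro _
      refine ⟨⊥, fun _ h => absurd h List.not_mem_nil, ?_⟩
      have h1 : fx ρ (⊥ : Subgroup G) = ⊤ := by
        rw [eq_top_iff]
        intro v _ g hg
        rw [mem_bot.1 hg, map_one, Module.End.one_apply]
      rw [h1, finrank_top, Module.finrank_fin_fun]
      exact Nat.le_add_right _ _
    | cons a l ih =>
      intro hl
      obtain ⟨T, hT, hd⟩ := ih fun z hz => hl z (List.mem_cons_of_mem _ hz)
      obtain ⟨⟨k, hk⟩, hidx⟩ := hl a List.mem_cons_self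
      have hXp : IsPGroup p (zpowers a.1) := IsPGroup.of_card (n := k) (by rw [Nat.card_zpowers, hk])
      obtain ⟨Y, hY, hYX, -, -⟩ := Cfsg.Agent.H245.QA.exists_lift_pGroup hψ.surj h.hp (not_dvd_ker h hψ) _ hXp
      refine ⟨T ⊔ Y, ?_, ?_⟩
      · intro z hz
        rw [Subgroup.map_sup]
        rcases List.mem_cons.1 hz with rfl | hz
        · refine (le_sup_right : _ ≤ T.map ψ ⊔ Y.map ψ) ?_
          rw [hYX]
          exact mem_zpowers _
        · exact (le_sup_left : _ ≤ T.map ψ ⊔ Y.map ψ) (hT z hz)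
      · have h1 := hc.idx Y hY
        rw [hYX] at h1
        have h2 := le_log hq2 hq0 (h1.trans hidx)
        have h3 : fx ρ T ⊓ fx ρ Y ≤ fx ρ (T ⊔ Y) := by
          intro v hv g hg
          have h4 : T ⊔ Y ≤ ({ carrier := {g | ρ g v = v}
                               mul_mem' := fun {a b} ha hb => by
                                 show ρ (a * b) v = v
                                 rw [map_mul, Module.End.mul_apply, show ρ b v = v from hb, show ρ a v = v from ha]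
                               one_mem' := by show ρ 1 v = v; rw [map_one, Module.End.one_apply]
                               inv_mem' := fun {a} ha => by
                                 show ρ a⁻¹ v = v
                                 have h5 : ρ a v = v := ha
                                 conv_lhs => rw [← h5]
                                 rw [← Module.End.mul_apply, ← map_mul, inv_mul_cancel, map_one, Module.End.one_apply] } :
                               Subgroup G) := by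
            rw [sup_le_iff]
            exact ⟨fun g hg => (Submodule.mem_inf.1 hv).1 g hg, fun g hg => (Submodule.mem_inf.1 hv).2 g hg⟩
          exact h4 hg
        have h5 := Submodule.finrank_mono h3
        have h6 := Submodule.finrank_sup_add_finrank_inf_eq (fx ρ T) (fx ρ Y)
        have h7 := Submodule.finrank_le (fx ρ T ⊔ fx ρ Y)
        rw [Module.finrank_fin_fun] at h7
        rw [List.map_cons, List.sum_cons]
        omega
  obtain ⟨T, hT, hd⟩ := key l hl
  have h1 : T.map ψ = ⊤ := hgen _ hT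
  have h2 : T = ⊤ := Cfsg.Agent.H306.QA.eq_top_of_map hψ T h1
  rw [h2, hc.top] at hd
  have := hc.le
  omega

end crit2

end Cfsg.Agent.H973.QA
end
end

-- part: H991/QA/FiFive
section
set_option linter.all false
open scoped Cfsg.Agent.FastGrp

/-!
# S4979, layer (A), SP7: an elementary abelian subgroup of order 25 of `Fi22`, all elements of order 5 conjugate
-/

set_option autoImplicit false

open Cfsg

namespace Cfsg.Agent.H991.QA

open Subgroup Cfsg.Agent.H76.Inv.FiTT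
open Cfsg.Agent.LThreeFi23 (pairSub pairSub_pow pairSub_pgroup pairSub_card)

theorem isConj_five {a b : Spor.Fi22} (ha : a ^ 5 = 1) (ha1 : a ≠ 1) (hb : b ^ 5 = 1) (hb1 : b ≠ 1) : IsConj a b := by
  have I := Cfsg.Agent.H836.inv_of_iso (MulEquiv.refl Spor.Fi22)
  have h5 : Fact (Nat.Prime 5) := ⟨by norm_num⟩
  have hao : orderOf a = 5 := orderOf_eq_prime ha ha1
  have hbo : orderOf b = 5 := orderOf_eq_prime hb hb1
  obtain ⟨g, hg⟩ := Cfsg.Agent.H835.Five.conj_five I (zpowers a) (zpowers b)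
    (by rw [Nat.card_zpowers, hao]) (by rw [Nat.card_zpowers, hbo])
  have h1 : g * a * g⁻¹ ∈ zpowers b := by
    rw [← hg]
    exact ⟨a, mem_zpowers a, rfl⟩
  have hc : IsConj a (g * a * g⁻¹) := isConj_iff.2 ⟨g, rfl⟩
  refine hc.trans ?_
  have h2 : g * a * g⁻¹ ≠ 1 := by
    intro h
    apply ha1
    have h3 : a = g⁻¹ * (g * a * g⁻¹) * g := by group
    rw [h3, h]
    group
  generalize g * a * g⁻¹ = c at h1 h2
  rw [← mem_powers_iff_mem_zpowers] at h1
  obtain ⟨k, rfl⟩ := h1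
  obtain ⟨s, hs⟩ := Cfsg.Agent.H835.Five.exists_square I hb hb1
  have hk : ∀ m : ℕ, IsConj b (b ^ (2 ^ m)) := by
    intro m
    induction m with
    | zero => rw [pow_zero, pow_one]
    | succ m ih =>
      have h4 : IsConj (b ^ (2 ^ m)) (b ^ (2 ^ (m + 1))) := by
        refine isConj_iff.2 ⟨s, ?_⟩
        rw [conj_pow.symm, hs, ← pow_mul, pow_succ']
      exact ih.trans h4
  have h7 : b ^ k = b ^ (k % 5) := pow_eq_pow_mod k hb
  have h8 : k % 5 < 5 := Nat.mod_lt _ (by norm_num)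
  simp only at h2 ⊢
  rw [h7] at h2 ⊢
  have e8 : b ^ 3 = b ^ 2 ^ 3 := (pow_eq_pow_mod (2 ^ 3) hb).symm
  interval_cases k % 5
  · exact absurd (pow_zero b) h2
  · rw [pow_one]
  · have := hk 1
    rw [pow_one] at this
    exact this.symm
  · have := hk 3
    rw [e8]
    exact this.symm
  · have := hk 2
    exact this.symm

/-- [SP7] -/
theorem fi22_five : ∃ X : Subgroup Spor.Fi22, Nat.card X = 25 ∧ (∀ a ∈ X, ∀ b ∈ X, a * b = b * a) ∧
    (∀ a ∈ X, a ^ 5 = 1) ∧ ∀ a ∈ X, ∀ b ∈ X, a ≠ 1 → b ≠ 1 → IsConj a b := by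
  have h5 : Fact (Nat.Prime 5) := ⟨by norm_num⟩
  have hpow : ∀ a ∈ pairSub _ _ u_comm, a ^ 5 = 1 := fun a ha => pairSub_pow u_comm u0_pow u1_pow ha
  refine ⟨pairSub _ _ u_comm, ?_, ?_, hpow, fun a ha b hb ha1 hb1 => isConj_five (hpow a ha) ha1 (hpow b hb) hb1⟩
  · have h1 := pairSub_card u_comm u0_pow u1_pow u0_ne u1_notin
    obtain ⟨n, hn⟩ := IsPGroup.iff_card.1 (pairSub_pgroup u_comm u0_pow u1_pow)
    have h2 : Nat.card ↥(pairSub _ _ u_comm) ∣ Nat.card Spor.Fi22 := Subgroup.card_subgroup_dvd_card _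
    rw [hn] at h1 h2 ⊢
    rw [card_G] at h2
    have h3 : 2 ≤ n := (Nat.pow_dvd_pow_iff_le_right (by norm_num)).1 h1
    have h4 : n < 3 := by
      by_contra h
      have h6 : 5 ^ 3 ∣ 64561751654400 := (pow_dvd_pow 5 (not_lt.1 h)).trans h2
      norm_num at h6
    have h5 : n = 2 := by omega
    rw [h5]
    norm_num
  · rintro _ ⟨i, j, rfl⟩ _ ⟨i', j', rfl⟩
    have h := u_comm
    exact (((Commute.refl _).zpow_zpow _ _).mul_right (h.zpow_zpow _ _)).mul_left
      ((h.symm.zpow_zpow _ _).mul_right ((Commute.refl _).zpow_zpow _ _))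

end Cfsg.Agent.H991.QA
end
end
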